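import Groth.Agent.Lib.ASBun21.TautFree
import Mathlib.CategoryTheory.Idempotents.Basic
import Mathlib.Algebra.Module.Projective

/-!
# Retracts of finite free modules and finite projective modules over the global functions
-/

universe u

open CategoryTheory CategoryTheory.Limits AlgebraicGeometry TopologicalSpace Opposite

set_option backward.isDefEq.respectTransparency false

noncomputable section

namespace GrothLib.FreeRetract9

open GrothLib.InvExt (mres)

variable (X : Scheme.{u})

/-- Global sections as a module over the global functions. -/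
def gamma : X.Modules ⥤ ModuleCat.{u} Γ(X, ⊤) where
  obj M := ModuleCat.of Γ(X, ⊤) Γ(M, ⊤)
  map φ := ModuleCat.ofHom
    { toFun := fun x ↦ φ.app ⊤ x
      map_add' := fun x y ↦ map_add _ x y
      map_smul' := fun r x ↦ Scheme.Modules.Hom.app_smul φ r x }
  map_id _ := rfl
  map_comp _ _ := rfl

variable {X}

/-- The section over all opens given by a global section. -/
def secOf (N : X.Modules) (s : Γ(N, ⊤)) : SheafOfModules.sections N :=
  ⟨fun U ↦ N.presheaf.map (homOfLE le_top).op s, fun {U V} i ↦
    (ConcreteCategory.congr_hom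
      (N.presheaf.map_comp (homOfLE (le_top (a := U.unop))).op i) s).symm⟩

/-- Morphisms out of a finite free module with prescribed images of the basis. -/
def lift {n : ℕ} {N : X.Modules} (v : Fin n → Γ(N, ⊤)) : FlatMod.freeMod X n ⟶ N :=
  Sigma.desc fun t ↦ (SheafOfModules.unitHomEquiv N).symm (secOf N (v t))

theorem lift_std {n : ℕ} {N : X.Modules} (v : Fin n → Γ(N, ⊤)) (t : Fin n) :
    (lift v).app ⊤ (ASBun21.std X t ⊤) = v t := by
  show (Sigma.ι (fun _ : Fin n ↦ Coh.structureModule X) t ≫ lift v).app ⊤ (FinCov.one X ⊤) = v t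
  rw [lift, Sigma.ι_desc]
  have h := congrArg (fun s : SheafOfModules.sections N ↦ s.val (op ⊤))
    ((SheafOfModules.unitHomEquiv N).apply_symm_apply (secOf N (v t)))
  refine Eq.trans h ?_
  show N.presheaf.map (𝟙 _) (v t) = v t
  rw [CategoryTheory.Functor.map_id]
  rfl

theorem hom_ext_top {n : ℕ} {N : X.Modules} {f g : FlatMod.freeMod X n ⟶ N}
    (h : ∀ t, f.app ⊤ (ASBun21.std X t ⊤) = g.app ⊤ (ASBun21.std X t ⊤)) : f = g := by
  refine ASBun21.hom_ext_std X fun t V ↦ ?_
  rw [← ASBun21.mres_std X t (le_top (a := V)), Ample.app_mres, Ample.app_mres, h t]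

theorem gamma_map_bijective_free (n : ℕ) (N : X.Modules) :
    Function.Bijective fun f : FlatMod.freeMod X n ⟶ N ↦ (gamma X).map f := by
  refine ⟨fun f g h ↦ hom_ext_top fun t ↦ congrArg (fun q ↦ q.hom (ASBun21.std X t ⊤)) h,
    fun φ ↦ ⟨lift fun t ↦ φ.hom (ASBun21.std X t ⊤), ?_⟩⟩
  refine ModuleCat.hom_ext ((ASBun21.stdBasis X ⊤).ext fun t ↦ ?_)
  rw [ASBun21.stdBasis_apply]
  exact lift_std _ t

variable (X)

/-- The retracts of finite free modules. -/
abbrev RetractFree : ObjectProperty X.Modules := fun M ↦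
  ∃ (n : ℕ) (i : M ⟶ FlatMod.freeMod X n) (r : FlatMod.freeMod X n ⟶ M), i ≫ r = 𝟙 M

/-- The finite projective modules. -/
abbrev FinProj : ObjectProperty (ModuleCat.{u} Γ(X, ⊤)) := fun N ↦
  Module.Finite Γ(X, ⊤) N ∧ Module.Projective Γ(X, ⊤) N

theorem finProj_gamma (M : X.Modules) (h : RetractFree X M) : FinProj X ((gamma X).obj M) := by
  obtain ⟨n, i, r, hir⟩ := h
  have e : (gamma X).map i ≫ (gamma X).map r = 𝟙 _ := by
    rw [← Functor.map_comp, hir, CategoryTheory.Functor.map_id]
  have e' : ((gamma X).map r).hom.comp ((gamma X).map i).hom = LinearMap.id :=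
    congrArg ModuleCat.Hom.hom e
  haveI : Module.Free Γ(X, ⊤) ((gamma X).obj (FlatMod.freeMod X n)) :=
    Module.Free.of_basis (ASBun21.stdBasis X ⊤)
  haveI : Module.Finite Γ(X, ⊤) ((gamma X).obj (FlatMod.freeMod X n)) :=
    Module.Finite.of_basis (ASBun21.stdBasis X ⊤)
  exact ⟨Module.Finite.of_surjective ((gamma X).map r).hom
    fun x ↦ ⟨_, LinearMap.congr_fun e' x⟩, Module.Projective.of_split _ _ e'⟩

/-- The comparison functor. -/
def functor : (RetractFree X).FullSubcategory ⥤ (FinProj X).FullSubcategory :=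
  (FinProj X).lift ((RetractFree X).ι ⋙ gamma X) fun M ↦ finProj_gamma X M.obj M.property

theorem gamma_map_bijective (M : X.Modules) (hM : RetractFree X M) (N : X.Modules) :
    Function.Bijective fun f : M ⟶ N ↦ (gamma X).map f := by
  obtain ⟨n, i, r, hir⟩ := hM
  refine ⟨fun f g h ↦ ?_, fun φ ↦ ?_⟩
  · have : r ≫ f = r ≫ g := (gamma_map_bijective_free n N).1 (by
      simp only [Functor.map_comp]
      exact congrArg _ h)
    rw [← Category.id_comp f, ← Category.id_comp g, ← hir, Category.assoc, Category.assoc, this]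
  · obtain ⟨ψ, hψ⟩ := (gamma_map_bijective_free n N).2 ((gamma X).map r ≫ φ)
    refine ⟨i ≫ ψ, ?_⟩
    show (gamma X).map (i ≫ ψ) = φ
    rw [Functor.map_comp, show (gamma X).map ψ = _ from hψ, ← Category.assoc, ← Functor.map_comp,
      hir, CategoryTheory.Functor.map_id, Category.id_comp]

theorem faithful : (functor X).Faithful where
  map_injective {M N f g} h := ObjectProperty.hom_ext _
    ((gamma_map_bijective X M.obj M.property N.obj).1 (congrArg (fun q ↦ q.hom) h))

theorem full : (functor X).Full where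
  map_surjective {M N} φ :=
    let ⟨f, hf⟩ := (gamma_map_bijective X M.obj M.property N.obj).2 φ.hom
    ⟨ObjectProperty.homMk f, ObjectProperty.hom_ext _ hf⟩

theorem essSurj : (functor X).EssSurj where
  mem_essImage P := by
    obtain ⟨hfin, hproj⟩ := P.property
    obtain ⟨n, v, hv⟩ := Module.Finite.exists_fin (R := Γ(X, ⊤)) (M := P.obj)
    let F : ModuleCat.{u} Γ(X, ⊤) := (gamma X).obj (FlatMod.freeMod X n)
    let π : F →ₗ[Γ(X, ⊤)] P.obj := (ASBun21.stdBasis X ⊤).constr Γ(X, ⊤) v
    have hπ : Function.Surjective π := LinearMap.range_eq_top.1 (eq_top_iff.2 (hv ▸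
      Submodule.span_le.2 (by
        rintro _ ⟨t, rfl⟩
        exact ⟨ASBun21.stdBasis X ⊤ t, (ASBun21.stdBasis X ⊤).constr_basis _ _ t⟩)))
    obtain ⟨s, hs⟩ := Module.projective_lifting_property π LinearMap.id hπ
    obtain ⟨e, he⟩ := (gamma_map_bijective_free n (FlatMod.freeMod X n)).2
      (ModuleCat.ofHom π ≫ ModuleCat.ofHom s : F ⟶ F)
    replace he : (gamma X).map e = ModuleCat.ofHom π ≫ ModuleCat.ofHom s := he
    have hsπ : ModuleCat.ofHom s ≫ ModuleCat.ofHom π = 𝟙 P.obj := ModuleCat.hom_ext hs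
    have hee : e ≫ e = e := (gamma_map_bijective_free n _).1 (by
      show (gamma X).map (e ≫ e) = (gamma X).map e
      rw [Functor.map_comp, he, Category.assoc, reassoc_of% hsπ])
    obtain ⟨M, i, r, hir, hri⟩ := IsIdempotentComplete.idempotents_split _ e hee
    refine ⟨⟨M, n, i, r, hir⟩, ⟨ObjectProperty.isoMk _
      { hom := (gamma X).map i ≫ ModuleCat.ofHom π
        inv := ModuleCat.ofHom s ≫ (gamma X).map r
        hom_inv_id := ?_
        inv_hom_id := ?_ }⟩⟩
    · show _ = 𝟙 ((gamma X).obj M)
      rw [Category.assoc, ← Category.assoc (ModuleCat.ofHom π), ← he, ← Functor.map_comp,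
        ← Functor.map_comp, ← hri, Category.assoc, hir, Category.comp_id, hir]
      exact (gamma X).map_id M
    · show _ = 𝟙 P.obj
      rw [Category.assoc, ← Category.assoc ((gamma X).map r), ← Functor.map_comp, hri, he,
        Category.assoc, hsπ, Category.comp_id, hsπ]

theorem nonempty_equiv :
    Nonempty ((RetractFree X).FullSubcategory ≌ (FinProj X).FullSubcategory) :=
  have := faithful X
  have := full X
  have := essSurj X
  have : (functor X).IsEquivalence := {}
  ⟨(functor X).asEquivalence⟩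

end GrothLib.FreeRetract9
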